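import Groth.Prelude.Def_MoreMor
import Groth.Agent.Flat2D.GeomFib
import Mathlib.AlgebraicGeometry.Morphisms.UniversallyInjective
import Mathlib.FieldTheory.PurelyInseparable.Basic

/-!
# Counting geometric connected components: upper and lower bounds

* `card_le`: lower bound from pairwise disjoint clopen pieces meeting the fibre.
* `nGeomConnComp_le`: upper bound by the number of points of the fibre when all residue field
  extensions are purely inseparable.
-/

set_option autoImplicit false
universe u

namespace Groth.Agent.Ega43.H133.GeomCount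

open AlgebraicGeometry CategoryTheory CategoryTheory.Limits Groth.Agent.Flat2D

theorem card_le_connectedComponents {Z ι : Type*} [TopologicalSpace Z] (W : ι → Set Z)
    (hc : ∀ i, IsClopen (W i)) (hd : ∀ i j, i ≠ j → Disjoint (W i) (W j)) (hne : ∀ i, (W i).Nonempty) :
    ENat.card ι ≤ ENat.card (_root_.ConnectedComponents Z) := by
  choose z hz using hne
  let φ : ι → _root_.ConnectedComponents Z := fun i => (z i : _root_.ConnectedComponents Z)
  have hφ : Function.Injective φ := by
    intro i j hij
    by_contra hne
    have h1 : connectedComponent (z i) = connectedComponent (z j) := ConnectedComponents.coe_eq_coe.mp hij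
    have h2 : connectedComponent (z j) ⊆ W j := (hc j).connectedComponent_subset (hz j)
    have h3 : z i ∈ W j := h2 (h1 ▸ mem_connectedComponent)
    exact Set.disjoint_left.1 (hd i j hne) (hz i) h3
  exact ENat.card_le_card_of_injective hφ

theorem apply_eq_of_geomFiber {X Y : Scheme.{u}} (f : X ⟶ Y) (y : Y) {p : MoreMor.geomFiber f y ⟶ X}
    {q : MoreMor.geomFiber f y ⟶ Spec (.of (SeparableClosure (Y.residueField y)))}
    (h : IsPullback p q f (Spec.map (CommRingCat.ofHom
          (algebraMap (Y.residueField y) (SeparableClosure (Y.residueField y)))) ≫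
        Y.fromSpecResidueField y)) (w : MoreMor.geomFiber f y) : f (p w) = y := by
  have h1 : f (p w) = (p ≫ f) w := (Scheme.Hom.comp_apply _ _ _).symm
  rw [h1, h.w, Scheme.Hom.comp_apply]
  exact GeomFib.comp_fromSpecResidueField_apply y _ _

/-- Lower bound: pairwise disjoint clopen sets all meeting the fibre. -/
theorem card_le_nGeomConnComp {X Y : Scheme.{u}} {ι : Type*} (f : X ⟶ Y) (y : Y) (W : ι → Set X)
    (hc : ∀ i, IsClopen (W i)) (hd : ∀ i j, i ≠ j → ∀ x, f x = y → x ∈ W i → x ∉ W j)
    (hne : ∀ i, ∃ x ∈ W i, f x = y) :
    ENat.card ι ≤ MoreMor.nGeomConnComp f y := by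
  obtain ⟨p, q, h⟩ := GeomFib.exists_isPullback_geomFiber f y
  rw [MoreMor.nGeomConnComp]
  refine card_le_connectedComponents (fun i => p ⁻¹' (W i)) (fun i => (hc i).preimage p.continuous) ?_ ?_
  · intro i j hij
    rw [Set.disjoint_left]
    intro w hw hw'
    exact hd i j hij _ (apply_eq_of_geomFiber f y h w) hw hw'
  · intro i
    obtain ⟨x, hx, hxy⟩ := hne i
    obtain ⟨w, hw, -⟩ := Scheme.exists_preimage_of_isPullback h x
      (IsLocalRing.closedPoint _) (by
        rw [hxy]; exact (GeomFib.comp_fromSpecResidueField_apply y _ _).symm)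
    exact ⟨w, by change p w ∈ W i; rw [hw]; exact hx⟩

/-- The spectrum of the residue field of a point with purely inseparable residue field extension is
universally injective over the base. -/
theorem universallyInjective_fromSpecResidueField {X Y : Scheme.{u}} (f : X ⟶ Y) (x : X)
    (hx : (f.residueFieldMap x).hom.IsPurelyInseparable) :
    UniversallyInjective (X.fromSpecResidueField x ≫ f) := by
  refine ((tfae_universallyInjective (X.fromSpecResidueField x ≫ f)).out 0 1).mpr ?_
  intro K _ g₁ g₂ hg
  obtain ⟨φ₁, rfl⟩ := Spec.map_surjective g₁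
  obtain ⟨φ₂, rfl⟩ := Spec.map_surjective g₂
  simp only [← f.SpecMap_residueFieldMap_fromSpecResidueField x] at hg
  rw [← Category.assoc, ← Category.assoc, cancel_mono, ← Spec.map_comp, ← Spec.map_comp] at hg
  have hg' := Spec.map_injective hg
  congr 1
  algebraize [(f.residueFieldMap x).hom]
  apply CommRingCat.hom_ext
  exact IsPurelyInseparable.injective_comp_algebraMap
      (Y.residueField (f x)) (X.residueField x) _ (congrArg CommRingCat.Hom.hom hg')

/-- A base change to a field is injective on points above points with purely inseparable residue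
field extension. -/
theorem eq_of_isPurelyInseparable {X Y Z : Scheme.{u}} {K : Type u} [Field K] {f : X ⟶ Y} {z : Spec (.of K) ⟶ Y}
    {p : Z ⟶ X} {q : Z ⟶ Spec (.of K)} (h : IsPullback p q f z) (x : X)
    (hx : (f.residueFieldMap x).hom.IsPurelyInseparable) (a b : Z) (ha : p a = x) (hb : p b = x) : a = b := by
  have h1 := universallyInjective_fromSpecResidueField f x hx
  have hi := IsPullback.of_hasPullback (X.fromSpecResidueField x) p
  have h2 := (hi.flip.paste_horiz h.flip).flip
  have h3 : UniversallyInjective (pullback.snd (X.fromSpecResidueField x) p ≫ q) :=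
    MorphismProperty.of_isPullback h2 h1
  have key : ∀ c : Z, p c = x → ∃ c' : ↥(pullback (X.fromSpecResidueField x) p),
      pullback.snd (X.fromSpecResidueField x) p c' = c := by
    intro c hc
    obtain ⟨c', -, hc'⟩ := Scheme.exists_preimage_of_isPullback hi
      (IsLocalRing.closedPoint (X.residueField x)) c (by
        rw [hc]; exact Scheme.fromSpecResidueField_apply _ _)
    exact ⟨c', hc'⟩
  obtain ⟨a', rfl⟩ := key a ha
  obtain ⟨b', rfl⟩ := key b hb
  congr 1
  apply (pullback.snd (X.fromSpecResidueField x) p ≫ q).injective
  exact Subsingleton.elim (α := PrimeSpectrum K) _ _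

/-- Upper bound: the fibre is a finite set of points with purely inseparable residue field
extensions. -/
theorem nGeomConnComp_le_card {X Y : Scheme.{u}} {ι : Type*} (f : X ⟶ Y) (y : Y) (v : ι → X)
    (hv : ∀ i, (f.residueFieldMap (v i)).hom.IsPurelyInseparable)
    (hcov : ∀ x, f x = y → ∃ i, x = v i) :
    MoreMor.nGeomConnComp f y ≤ ENat.card ι := by
  obtain ⟨p, q, h⟩ := GeomFib.exists_isPullback_geomFiber f y
  rw [MoreMor.nGeomConnComp]
  have h1 : ENat.card (_root_.ConnectedComponents (MoreMor.geomFiber f y)) ≤
      ENat.card (MoreMor.geomFiber f y) := by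
    obtain ⟨ψ, hψ⟩ := (ConnectedComponents.surjective_coe
      (α := MoreMor.geomFiber f y)).hasRightInverse
    exact ENat.card_le_card_of_injective hψ.injective
  refine h1.trans ?_
  choose φ hφ using fun w => hcov _ (apply_eq_of_geomFiber f y h w)
  refine ENat.card_le_card_of_injective (f := φ) ?_
  intro a b hab
  exact eq_of_isPurelyInseparable h (v (φ b)) (hv _) a b (by rw [← hab]; exact hφ a) (hφ b)

end Groth.Agent.Ega43.H133.GeomCount
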