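import Groth.Prelude.Def_EGA43
import Mathlib.AlgebraicGeometry.Morphisms.UniversallyOpen

/-!
# A universally open morphism is universally open at every point
-/

set_option autoImplicit false
universe u

namespace Groth.Agent.Ega43.H133.OpenAt

open AlgebraicGeometry CategoryTheory CategoryTheory.Limits

theorem isOpenAt_of_isOpenMap {α β : Type*} [TopologicalSpace α] [TopologicalSpace β] {f : α → β}
    (hf : IsOpenMap f) (x : α) : EGA43.IsOpenAt f x := fun _ hU => hf.image_mem_nhds hU

theorem isUnivOpenAt_of_universallyOpen {X Y : Scheme.{u}} (f : X ⟶ Y) [UniversallyOpen f] (x : X) :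
    EGA43.IsUnivOpenAt f x := by
  intro Y' g x' _
  exact isOpenAt_of_isOpenMap (pullback.snd f g).isOpenMap x'

end Groth.Agent.Ega43.H133.OpenAt
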