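import Groth.Prelude.Def_EGA43
import Groth.Agent.Ega43.H133.GeomCount
import Groth.Agent.Sga1.SigmaFinite
import Groth.Agent.S1482
import Mathlib.AlgebraicGeometry.Morphisms.FlatDescent
import Mathlib.AlgebraicGeometry.Morphisms.Etale
import Mathlib.AlgebraicGeometry.Morphisms.Proper
import Mathlib.AlgebraicGeometry.Morphisms.QuasiFinite

/-!
# Lower semicontinuity of the geometric number of points; constancy implies properness
-/

set_option autoImplicit false
universe u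

namespace Groth.Agent.Ega43.H133.ProperNhd

open AlgebraicGeometry CategoryTheory CategoryTheory.Limits Groth.Agent.Ega43.H133.GeomCount

/-- Split situation. -/
theorem split_case {Z U : Scheme.{u}} {ι : Type*} [Finite ι] (p : Z ⟶ U) [IsSeparated p] (u : U)
    (V : ι → Z.Opens) (v : ι → Z) (hvV : ∀ i, v i ∈ V i) (hfin : ∀ i, IsFinite ((V i).ι ≫ p))
    (hpv : ∀ i, p (v i) = u) (huniq : ∀ i, ∀ w ∈ V i, p w = u → w = v i)
    (hins : ∀ i, (p.residueFieldMap (v i)).hom.IsPurelyInseparable)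
    (hinj : Function.Injective v) (hcov : ∀ w, p w = u → ∃ i, w = v i)
    (hopen : ∀ i, EGA43.IsOpenAt p.base (v i)) :
    ∃ W : U.Opens, u ∈ W ∧ (∀ z ∈ W, MoreMor.nGeomConnComp p u ≤ MoreMor.nGeomConnComp p z) ∧
      (∀ z ∈ W, MoreMor.nGeomConnComp p z = MoreMor.nGeomConnComp p u → ∀ w, p w = z → ∃ i, w ∈ V i) := by
  classical
  -- the pieces are clopen
  have hclopen : ∀ i, IsClopen (V i : Set Z) := by
    intro i
    have h1 : IsProper ((V i).ι ≫ p) := inferInstance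
    have h2 : IsProper (V i).ι := IsProper.of_comp (V i).ι p
    refine ⟨?_, (V i).2⟩
    have := (V i).ι.isClosedMap.isClosed_range
    rwa [Scheme.Opens.range_ι] at this
  have himg : ∀ i (C : Set Z), C ⊆ V i → IsClosed C → IsClosed (p '' C) := by
    intro i C hC hCc
    have h1 : UniversallyClosed ((V i).ι ≫ p) := inferInstance
    have h2 : p '' C = ((V i).ι ≫ p) '' ((V i).ι ⁻¹' C) := by
      ext z
      constructor
      · rintro ⟨c, hc, rfl⟩
        exact ⟨⟨c, hC hc⟩, hc, rfl⟩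
      · rintro ⟨c, hc, rfl⟩
        exact ⟨(V i).ι c, hc, rfl⟩
    rw [h2]
    exact ((V i).ι ≫ p).isClosedMap _ (hCc.preimage (V i).ι.continuous)
  -- the good open
  have hE1 : ∀ i, p '' (V i : Set Z) ∈ nhds u := by
    intro i
    rw [← hpv i]
    exact hopen i _ ((V i).2.mem_nhds (hvV i))
  have hE2 : ∀ i j, i ≠ j → (p '' ((V i : Set Z) ∩ V j))ᶜ ∈ nhds u := by
    intro i j hij
    refine IsOpen.mem_nhds ?_ ?_
    · rw [isOpen_compl_iff]
      exact himg i _ Set.inter_subset_left ((hclopen i).1.inter (hclopen j).1)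
    · rintro ⟨w, ⟨hwi, hwj⟩, hwu⟩
      exact hij (hinj ((huniq i w hwi hwu).symm.trans (huniq j w hwj hwu)))
  have hE : (⋂ i, p '' (V i : Set Z)) ∩ (⋂ i, ⋂ j, ⋂ (_ : i ≠ j), (p '' ((V i : Set Z) ∩ V j))ᶜ) ∈ nhds u := by
    refine Filter.inter_mem ((Filter.iInter_mem).2 hE1) ((Filter.iInter_mem).2 fun i =>
      (Filter.iInter_mem).2 fun j => ?_)
    by_cases hij : i = j
    · simp [hij]
    · exact (Filter.iInter_mem).2 fun h => hE2 i j h
  obtain ⟨W, hWsub, hWo, huW⟩ := mem_nhds_iff.1 hE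
  have hW1 : ∀ z ∈ W, ∀ i, ∃ x ∈ (V i : Set Z), p x = z := by
    intro z hz i
    have := (Set.mem_iInter.1 (hWsub hz).1) i
    exact this
  have hW2 : ∀ z ∈ W, ∀ i j, i ≠ j → ∀ x, p x = z → x ∈ (V i : Set Z) → x ∉ (V j : Set Z) := by
    intro z hz i j hij x hx hxi hxj
    have := (hWsub hz).2
    simp only [Set.mem_iInter] at this
    exact this i j hij ⟨x, ⟨hxi, hxj⟩, hx⟩
  have hup : MoreMor.nGeomConnComp p u ≤ ENat.card ι := nGeomConnComp_le_card p u v hins hcov
  refine ⟨⟨W, hWo⟩, huW, ?_, ?_⟩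
  · intro z hz
    exact hup.trans (card_le_nGeomConnComp p z (fun i => (V i : Set Z)) hclopen (hW2 z hz) (hW1 z hz))
  · intro z hz hn w hw
    by_contra hcon
    push Not at hcon
    have h1 : ENat.card (Option ι) ≤ MoreMor.nGeomConnComp p z := by
      refine card_le_nGeomConnComp p z
        (fun o => o.elim (⋃ i, (V i : Set Z))ᶜ (fun i => (V i : Set Z))) ?_ ?_ ?_
      · rintro (_ | i)
        · exact (isClopen_iUnion_of_finite hclopen).compl
        · exact hclopen i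
      · rintro (_ | i) (_ | j) hij x hx h1 h2
        · exact hij rfl
        · exact h1 (Set.mem_iUnion.2 ⟨j, h2⟩)
        · exact h2 (Set.mem_iUnion.2 ⟨i, h1⟩)
        · exact hW2 z hz i j (fun h => hij (by rw [h])) x hx h1 h2
      · rintro (_ | i)
        · refine ⟨w, ?_, hw⟩
          change w ∈ (⋃ i, (V i : Set Z))ᶜ
          simp only [Set.mem_compl_iff, Set.mem_iUnion, not_exists]
          exact hcon
        · exact hW1 z hz i
    rw [hn] at h1
    have h2 := h1.trans hup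
    have h3 : ENat.card (Option ι) = ENat.card ι + 1 := by
      have := Fintype.ofFinite ι
      simp
    rw [h3] at h2
    have h4 : ENat.card ι ≠ ⊤ := by
      have := Fintype.ofFinite ι
      simp
    exact absurd ((ENat.add_one_le_iff h4).1 h2) (lt_irrefl _)

/-- If the preimage of an open is covered by finitely many opens which are finite over the base, the
restriction is universally closed. -/
theorem universallyClosed_restrict {Z U : Scheme.{u}} {ι : Type u} [Finite ι] (p : Z ⟶ U) (V : ι → Z.Opens)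
    (hfin : ∀ i, IsFinite ((V i).ι ≫ p)) (W : U.Opens) (hW : ∀ w, p w ∈ W → ∃ i, w ∈ V i) :
    UniversallyClosed (p ∣_ W) := by
  let q : (∐ fun i => ((V i : Scheme.{u}))) ⟶ Z := Sigma.desc fun i => (V i).ι
  have h1 : q ≫ p = Sigma.desc fun i => (V i).ι ≫ p := by
    apply Sigma.hom_ext
    intro i
    simp [q]
  have h2 : UniversallyClosed (q ≫ p) := by
    rw [h1]
    exact Groth.Agent.Sga1.SigmaFinite.universallyClosed_sigmaDesc _
  have h3 : UniversallyClosed ((q ≫ p) ∣_ W) := inferInstance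
  have h4 : UniversallyClosed ((q ∣_ (p ⁻¹ᵁ W)) ≫ (p ∣_ W)) := by
    have := morphismRestrict_comp q p W
    rw [← this]
    exact h3
  have h5 : Surjective (q ∣_ (p ⁻¹ᵁ W)) := by
    refine ⟨?_⟩
    intro w
    obtain ⟨i, hi⟩ := hW w.1 w.2
    obtain ⟨t, ht⟩ : ∃ t : (V i : Scheme.{u}), (V i).ι t = w.1 := ⟨⟨w.1, hi⟩, rfl⟩
    have hq : q (Sigma.ι (fun i => ((V i : Scheme.{u}))) i t) = w.1 := by
      have e1 : Sigma.ι (fun i => ((V i : Scheme.{u}))) i ≫ q = (V i).ι := by simp [q]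
      rw [← Scheme.Hom.comp_apply, e1]
      exact ht
    have hr : Sigma.ι (fun i => ((V i : Scheme.{u}))) i t ∈ q ⁻¹ᵁ (p ⁻¹ᵁ W) := by
      change q _ ∈ p ⁻¹ᵁ W
      rw [hq]
      exact w.2
    obtain ⟨t', ht'⟩ : ∃ t' : (q ⁻¹ᵁ (p ⁻¹ᵁ W) : Scheme.{u}), (q ⁻¹ᵁ (p ⁻¹ᵁ W)).ι t' =
      Sigma.ι (fun i => ((V i : Scheme.{u}))) i t := ⟨⟨_, hr⟩, rfl⟩
    refine ⟨t', ?_⟩
    apply (p ⁻¹ᵁ W).ι.injective
    rw [← Scheme.Hom.comp_apply, morphismRestrict_ι, Scheme.Hom.comp_apply, ht', hq]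
    rfl
  exact UniversallyClosed.of_comp_surjective (q ∣_ (p ⁻¹ᵁ W)) (p ∣_ W)

theorem descendsAlong_gen (P : MorphismProperty Scheme.{u})
    [MorphismProperty.DescendsAlong P (@Surjective ⊓ @Flat ⊓ @QuasiCompact)] [IsZariskiLocalAtTarget P] :
    MorphismProperty.DescendsAlong P (@Surjective ⊓ @Flat ⊓ @LocallyOfFinitePresentation) := inferInstance

theorem descendsAlong_universallyClosed :
    MorphismProperty.DescendsAlong (C := Scheme.{u}) (@UniversallyClosed)
      (@Surjective ⊓ @Flat ⊓ @LocallyOfFinitePresentation) :=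
  descendsAlong_gen.{u} (@UniversallyClosed)

/-- Descent of universal closedness along an etale neighbourhood. -/
theorem universallyClosed_descend {X Y U : Scheme.{u}} (f : X ⟶ Y) (g : U ⟶ Y) [Etale g] (W : U.Opens)
    (h : UniversallyClosed (pullback.snd f g ∣_ W)) (Y₀ : Y.Opens) (hY₀ : (Y₀ : Set Y) = g '' (W : Set U)) :
    UniversallyClosed (f ∣_ Y₀) := by
  have hr : Set.range (W.ι ≫ g) ⊆ Set.range Y₀.ι := by
    rw [Scheme.Opens.range_ι, hY₀]
    rintro _ ⟨w, rfl⟩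
    exact ⟨W.ι w, w.2, rfl⟩
  let g' : (W : Scheme.{u}) ⟶ Y₀ := IsOpenImmersion.lift Y₀.ι (W.ι ≫ g) hr
  have hg' : g' ≫ Y₀.ι = W.ι ≫ g := IsOpenImmersion.lift_fac _ _ _
  have het : Etale g' := by
    have : Etale (g' ≫ Y₀.ι) := by rw [hg']; infer_instance
    exact Etale.of_comp g' Y₀.ι
  have hsurj : Surjective g' := by
    refine ⟨?_⟩
    intro z
    have hz' : Y₀.ι z ∈ (Y₀ : Set Y) := z.2
    rw [hY₀] at hz'
    obtain ⟨w, hw, hwz⟩ := hz'
    obtain ⟨t, ht⟩ : ∃ t : (W : Scheme.{u}), W.ι t = w := ⟨⟨w, hw⟩, rfl⟩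
    refine ⟨t, ?_⟩
    apply Y₀.ι.injective
    rw [← Scheme.Hom.comp_apply, hg', Scheme.Hom.comp_apply, ht, hwz]
  have hA : IsPullback ((pullback.snd f g ⁻¹ᵁ W).ι ≫ pullback.fst f g) (pullback.snd f g ∣_ W) f (W.ι ≫ g) :=
    (isPullback_morphismRestrict (pullback.snd f g) W).flip.paste_horiz (IsPullback.of_hasPullback f g)
  have hB := (isPullback_morphismRestrict f Y₀).flip
  rw [← hg'] at hA
  have hC := IsPullback.of_right' hA hB
  have := descendsAlong_universallyClosed.{u}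
  exact MorphismProperty.of_isPullback_of_descendsAlong (P := @UniversallyClosed)
    (Q := @Surjective ⊓ @Flat ⊓ @LocallyOfFinitePresentation) hC.flip
    ⟨⟨hsurj, inferInstance⟩, inferInstance⟩ h

/-- Main theorem: lower semicontinuity of the geometric number of points at a point along whose fibre the
morphism is universally open, and properness near the point if the number is constant. -/
theorem core {X Y : Scheme.{u}} (f : X ⟶ Y) [IsSeparated f] [LocallyQuasiFinite f]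
    [LocallyOfFiniteType f] [QuasiCompact f] (y : Y)
    (h : ∀ x : X, f.base x = y → EGA43.IsUnivOpenAt f x) :
    (∃ V : Y.Opens, y ∈ V ∧ ∀ z ∈ V, MoreMor.nGeomConnComp f y ≤ MoreMor.nGeomConnComp f z) ∧
    ((∃ V ∈ nhds y, ∀ z ∈ V, MoreMor.nGeomConnComp f z = MoreMor.nGeomConnComp f y) →
      ∃ U : Y.Opens, y ∈ U ∧ IsProper (f ∣_ U)) := by
  have hfib : (f ⁻¹' {y}).Finite := f.finite_preimage_singleton y
  obtain ⟨n, ⟨e⟩⟩ := hfib.exists_equiv_fin
  obtain ⟨U, g, u, hg, hgu, J, hJ, V, v, h1, h2, h3⟩ := Groth.Agent.S1482.result f y (ι := Fin n)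
    (fun i => (e.symm i).1) (fun i j hij => e.symm.injective (Subtype.ext hij))
    (fun i => (e.symm i).2) (fun i => f.quasiFiniteAt _)
  let ι := Σ i, J i
  have hι : Finite ι := inferInstance
  let p := pullback.snd f g
  obtain ⟨W, huW, hW1, hW2⟩ := split_case (ι := ι) p u (fun i => V i.1 i.2) (fun i => v i.1 i.2)
    (fun i => (h1 i.1 i.2).1) (fun i => (h1 i.1 i.2).2.1) (fun i => (h1 i.1 i.2).2.2.1)
    (fun i => (h1 i.1 i.2).2.2.2.1) (fun i => (h1 i.1 i.2).2.2.2.2.1.2)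
    (fun i j hij => by
      obtain ⟨h4, h5⟩ := h2 i.1 i.2 j.1 j.2 hij
      exact Sigma.ext h4 h5)
    (fun w hw => by
      have h4 : f (pullback.fst f g w) = y := by
        rw [← Scheme.Hom.comp_apply, pullback.condition, Scheme.Hom.comp_apply]
        change g (p w) = y
        rw [hw, hgu]
      obtain ⟨j, hj⟩ := h3 w (e ⟨_, h4⟩) hw (by simp)
      exact ⟨⟨_, j⟩, hj⟩)
    (fun i => h _ (by
      rw [(h1 i.1 i.2).2.2.2.2.2]
      exact (e.symm i.1).2) U g _ rfl)
  have hbc : ∀ z : U, MoreMor.nGeomConnComp p z = MoreMor.nGeomConnComp f (g z) := fun z =>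
    Groth.Agent.Flat2D.GeomFib.nGeomConnComp_baseChange f p (pullback.fst f g) g
      (IsPullback.of_hasPullback f g) z
  constructor
  · refine ⟨⟨g '' W, g.isOpenMap _ W.2⟩, ⟨u, huW, hgu⟩, ?_⟩
    rintro _ ⟨z, hz, rfl⟩
    have := hW1 z hz
    rwa [hbc, hbc, hgu] at this
  · rintro ⟨V₀, hV₀, hconst⟩
    obtain ⟨V₁, hV₁V₀, hV₁o, hyV₁⟩ := mem_nhds_iff.1 hV₀
    let W' : U.Opens := W ⊓ (g ⁻¹ᵁ ⟨V₁, hV₁o⟩)
    have huW' : u ∈ W' := ⟨huW, by change g u ∈ V₁; rw [hgu]; exact hyV₁⟩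
    have hcl : UniversallyClosed (p ∣_ W') := by
      have : Finite (ULift.{u} ι) := inferInstance
      refine universallyClosed_restrict (ι := ULift.{u} ι) p (fun i => V i.down.1 i.down.2)
        (fun i => (h1 i.down.1 i.down.2).2.1) W' ?_
      intro w hw
      obtain ⟨i, hi⟩ := hW2 (p w) hw.1 (by
        rw [hbc, hbc, hgu]
        exact hconst _ (hV₁V₀ hw.2)) w rfl
      exact ⟨⟨i⟩, hi⟩
    refine ⟨⟨g '' W', g.isOpenMap _ W'.2⟩, ⟨u, huW', hgu⟩, ?_⟩
    have := universallyClosed_descend f g W' hcl ⟨g '' W', g.isOpenMap _ W'.2⟩ rfl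
    exact { }

end Groth.Agent.Ega43.H133.ProperNhd
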